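import Mathlib.Algebra.Module.CharacterModule
import Mathlib.Algebra.Module.FinitePresentation
import Mathlib.LinearAlgebra.TensorProduct.Basic

/-!
# Characters on `Hom` out of a finitely presented module
-/

set_option autoImplicit false
set_option linter.style.haveILetI false
universe u

open TensorProduct

namespace Groth.Agent.H4TorFactor

variable {R : Type u} [CommRing R] {M F M' : Type u} [AddCommGroup M] [Module R M] [AddCommGroup F] [Module R F]
  [AddCommGroup M'] [Module R M']

/-- If no tensor separates `α` from the image of postcomposition, it lies in the image. -/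
theorem exists_comp_eq [Module.FinitePresentation R M] (q : F →ₗ[R] M') (α : M →ₗ[R] M')
    (h : ∀ (b : ℕ) (m : Fin b → M) (φ : Fin b → CharacterModule M'),
      (∑ i, m i ⊗ₜ[R] CharacterModule.dual q (φ i) : M ⊗[R] CharacterModule F) = 0 →
      ∑ i, φ i (α (m i)) = 0) :
    ∃ g : M →ₗ[R] F, q ∘ₗ g = α := by
  by_contra hne
  obtain ⟨b, a, π, k, hπ, hex⟩ := Module.FinitePresentation.exists_fin' R M
  let P : (M →ₗ[R] F) →ₗ[R] (M →ₗ[R] M') := LinearMap.llcomp R M F M' q
  obtain ⟨χ, hχ⟩ := CharacterModule.exists_character_apply_ne_zero_of_ne_zero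
    (a := (Submodule.Quotient.mk α : (M →ₗ[R] M') ⧸ LinearMap.range P))
    (fun h0 => hne ((Submodule.Quotient.mk_eq_zero _).1 h0))
  let χ₁ : CharacterModule (M →ₗ[R] M') := CharacterModule.dual (LinearMap.range P).mkQ χ
  let v : (M →ₗ[R] M') →ₗ[R] (Fin b → M') := LinearMap.pi fun i => LinearMap.applyₗ (π (Pi.single i 1))
  have hv : Function.Injective v := fun f g hfg => LinearMap.ext fun m => by
    obtain ⟨w, rfl⟩ := hπ m
    rw [pi_eq_sum_univ' w]
    simp only [map_sum, map_smul]
    exact Finset.sum_congr rfl fun i _ => by rw [show f (π (Pi.single i 1)) = g (π (Pi.single i 1)) from congrFun hfg i]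
  obtain ⟨Φ, hΦ⟩ := CharacterModule.dual_surjective_of_injective v hv χ₁
  let φ : Fin b → CharacterModule M' := fun i => CharacterModule.dual (LinearMap.single R (fun _ : Fin b => M') i) Φ
  have hsplit : ∀ {d : ℕ} {X : Type u} [AddCommGroup X] [Module R X] (Ψ : CharacterModule (Fin d → X)) (x : Fin d → X),
      Ψ x = ∑ i, Ψ (Pi.single i (x i)) := fun {d X} _ _ Ψ x => by
    conv_lhs => rw [← Finset.univ_sum_single x]
    exact map_sum Ψ _ _
  have hΦφ : ∀ f : M →ₗ[R] M', χ₁ f = ∑ i, φ i (f (π (Pi.single i 1))) := fun f => by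
    rw [← hΦ]
    show Φ (v f) = _
    rw [hsplit Φ (v f)]
    rfl
  refine hχ ?_
  show χ₁ α = 0
  rw [hΦφ]
  refine h b (fun i => π (Pi.single i 1)) φ ?_
  -- the presentation of `Hom(M, F)`
  let A : (Fin b → F) →ₗ[R] (Fin a → F) :=
    LinearMap.pi fun j => ∑ i, k (Pi.single j 1) i • LinearMap.proj i
  let Φ' : CharacterModule (Fin b → F) := CharacterModule.dual (q.compLeft (Fin b)) Φ
  have hzero : ∀ x : Fin b → F, A x = 0 → Φ' x = 0 := by
    intro x hx
    have hle : LinearMap.ker π ≤ LinearMap.ker (Fintype.linearCombination R x) := fun w hw => by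
      obtain ⟨z, rfl⟩ := (hex w).1 hw
      rw [LinearMap.mem_ker, pi_eq_sum_univ' z, map_sum, map_sum]
      refine Finset.sum_eq_zero fun j _ => ?_
      rw [map_smul, map_smul, Fintype.linearCombination_apply,
        show ∑ i, k (Pi.single j 1) i • x i = 0 from (by simpa [A] using congrFun hx j), smul_zero]
    let g : M →ₗ[R] F := (LinearMap.ker π).liftQ _ hle ∘ₗ (π.quotKerEquivOfSurjective hπ).symm.toLinearMap
    have hg : ∀ i, g (π (Pi.single i 1)) = x i := fun i => by
      show (LinearMap.ker π).liftQ _ hle ((π.quotKerEquivOfSurjective hπ).symm (π (Pi.single i 1))) = x i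
      rw [show π (Pi.single i 1) = π.quotKerEquivOfSurjective hπ (Submodule.Quotient.mk (Pi.single i 1)) from rfl,
        LinearEquiv.symm_apply_apply, Submodule.liftQ_apply, Fintype.linearCombination_apply,
        Finset.sum_eq_single i (fun j _ hj => by simp [hj]) (by simp), Pi.single_eq_same, one_smul]
    have h1 : χ₁ (q ∘ₗ g) = 0 := by
      show χ (Submodule.Quotient.mk (q ∘ₗ g)) = 0
      have h2 : (Submodule.Quotient.mk (q ∘ₗ g) : (M →ₗ[R] M') ⧸ LinearMap.range P) = 0 :=
        (Submodule.Quotient.mk_eq_zero _).2 (LinearMap.mem_range.2 ⟨g, rfl⟩)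
      exact (congrArg χ h2).trans (map_zero χ)
    rw [← hΦ] at h1
    rw [← h1]
    show Φ _ = Φ (v (q ∘ₗ g))
    refine congrArg Φ (funext fun i => ?_)
    show q (x i) = q (g (π (Pi.single i 1)))
    rw [hg]
  let Φbar : CharacterModule (LinearMap.range A) :=
    (QuotientAddGroup.lift (LinearMap.ker A).toAddSubgroup Φ' (fun x hx => hzero x hx)).comp
      (A.quotKerEquivRange.symm.toLinearMap.toAddMonoidHom)
  obtain ⟨Ψ, hΨ⟩ := CharacterModule.dual_surjective_of_injective (LinearMap.range A).subtype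
    (LinearMap.range A).injective_subtype Φbar
  have hΨA : ∀ x, Ψ (A x) = Φ' x := fun x => by
    have := DFunLike.congr_fun hΨ ⟨A x, ⟨x, rfl⟩⟩
    refine this.trans ?_
    show (QuotientAddGroup.lift (LinearMap.ker A).toAddSubgroup Φ' (fun x hx => hzero x hx)) (A.quotKerEquivRange.symm ⟨A x, ⟨x, rfl⟩⟩) = Φ' x
    rw [show (⟨A x, ⟨x, rfl⟩⟩ : LinearMap.range A) = A.quotKerEquivRange (Submodule.Quotient.mk x) from rfl,
      LinearEquiv.symm_apply_apply]
    rfl
  let ψ : Fin a → CharacterModule F := fun j => CharacterModule.dual (LinearMap.single R (fun _ : Fin a => F) j) Ψ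
  have hφψ : ∀ i, CharacterModule.dual q (φ i) = ∑ j, k (Pi.single j 1) i • ψ j := fun i => CharacterModule.ext (A := F) fun y => by
    show Φ (Pi.single i (q y)) = _
    rw [show (Pi.single i (q y) : Fin b → M') = q.compLeft (Fin b) (Pi.single i y) from
      funext fun j => (Pi.apply_single (fun _ => q) (fun _ => map_zero q) i y j).symm]
    refine ((hΨA (Pi.single i y)).symm.trans (hsplit Ψ (A (Pi.single i y)))).trans ?_
    show _ = (∑ j, k (Pi.single j 1) i • ψ j : CharacterModule F) y
    refine Eq.trans ?_ (AddMonoidHom.finsetSum_apply (fun j => k (Pi.single j 1) i • ψ j) (Finset.univ : Finset (Fin a)) y).symm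
    refine Finset.sum_congr rfl fun j _ => ?_
    show Ψ (Pi.single j (A (Pi.single i y) j)) = Ψ (Pi.single j (k (Pi.single j 1) i • y))
    simp [A, Pi.single_apply, smul_ite, Finset.sum_ite_eq']
  calc (∑ i, π (Pi.single i 1) ⊗ₜ[R] CharacterModule.dual q (φ i) : M ⊗[R] CharacterModule F)
      = ∑ i, ∑ j, (k (Pi.single j 1) i • π (Pi.single i 1)) ⊗ₜ[R] ψ j := Finset.sum_congr rfl fun i _ => by
        rw [hφψ, TensorProduct.tmul_sum]
        simp only [TensorProduct.tmul_smul, TensorProduct.smul_tmul']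
    _ = ∑ j, π (k (Pi.single j 1)) ⊗ₜ[R] ψ j := by
        rw [Finset.sum_comm]
        refine Finset.sum_congr rfl fun j _ => ?_
        rw [← TensorProduct.sum_tmul]
        congr 1
        conv_rhs => rw [pi_eq_sum_univ' (k (Pi.single j 1)), map_sum]
        simp only [map_smul]
    _ = 0 := Finset.sum_eq_zero fun j _ => by
        rw [(hex _).2 ⟨_, rfl⟩, TensorProduct.zero_tmul]

end Groth.Agent.H4TorFactor
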