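import Groth.Agent.H4TorFactor.Main
import Groth.Agent.H1CAlg.Tor
import Mathlib.Algebra.Category.ModuleCat.Ext.Basic
import Mathlib.Algebra.Homology.DerivedCategory.Ext.EnoughProjectives
import Mathlib.Algebra.Homology.DerivedCategory.Ext.ExactSequences

/-!
# Killing the top `Ext` versus killing the top `Tor`
-/

set_option autoImplicit false
set_option linter.style.haveILetI false
universe u

open CategoryTheory Limits MonoidalCategory CategoryTheory.Abelian

namespace Groth.Agent.H4TorFactor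

open Groth.Agent.H1TorFlip

variable {R : Type u} [CommRing R]

/-- Precomposition with `f` kills `Ext^(n+1)`. -/
def ExtZero {X X' : ModuleCat.{u} R} (f : X ⟶ X') (n : ℕ) : Prop :=
  ∀ (N : ModuleCat.{u} R) (z : Ext X' N (n + 1)), (Ext.mk₀ f).comp z (zero_add _) = 0

/-- The syzygy sequence. -/
noncomputable abbrev omSeq (X : ModuleCat.{u} R) : ShortComplex (ModuleCat.{u} R) :=
  ShortComplex.mk ((inc R).app X) (ep R X) (inc_ep R X)

theorem omSeq_shortExact (X : ModuleCat.{u} R) : (omSeq X).ShortExact :=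
  { exact := exact_inc_ep R X, mono_f := mono_inc R X, epi_g := epi_ep R X }

instance projective_omSeq (X : ModuleCat.{u} R) : Projective (omSeq X).X₂ := projective_Fo R X

/-- The map of syzygy sequences. -/
noncomputable abbrev omMap {X X' : ModuleCat.{u} R} (f : X ⟶ X') : omSeq X ⟶ omSeq X' :=
  ShortComplex.homMk ((Om R).map f) ((Fo R).map f) f ((inc R).naturality f) (ep_naturality R f)

theorem extClass_comp_map {X X' : ModuleCat.{u} R} (f : X ⟶ X') {N : ModuleCat.{u} R} {n m : ℕ}
    (w : Ext (omSeq X').X₁ N n) (h : 1 + n = m) :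
    (Ext.mk₀ f).comp ((omSeq_shortExact X').extClass.comp w h) (zero_add m) =
      (omSeq_shortExact X).extClass.comp ((Ext.mk₀ (omMap f).τ₁).comp w (zero_add n)) h := by
  rw [← Ext.comp_assoc (Ext.mk₀ f) _ w (zero_add 1) h (by omega)]
  rw [show (Ext.mk₀ f).comp (omSeq_shortExact X').extClass (zero_add 1) =
    (omSeq_shortExact X).extClass.comp (Ext.mk₀ (omMap f).τ₁) (add_zero 1) from
      ((omSeq_shortExact X).extClass_naturality (omSeq_shortExact X') (omMap f)).symm]
  exact Ext.comp_assoc_of_second_deg_zero _ _ _ _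

theorem extClass_surjective {S : ShortComplex (ModuleCat.{u} R)} (hS : S.ShortExact) [Projective S.X₂]
    {N : ModuleCat.{u} R} {n m : ℕ} (h : 1 + n = m) (z : Ext S.X₃ N m) :
    ∃ w : Ext S.X₁ N n, hS.extClass.comp w h = z := by
  obtain rfl : m = n + 1 := by omega
  haveI : Subsingleton (Ext S.X₂ N (n + 1)) := Ext.subsingleton_of_projective _ _ _
  exact Ext.contravariant_sequence_exact₃ hS N z (Subsingleton.elim _ _) h

theorem extClass_injective {S : ShortComplex (ModuleCat.{u} R)} (hS : S.ShortExact) [Projective S.X₂]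
    {N : ModuleCat.{u} R} {n m : ℕ} (h : 1 + (n + 1) = m) (w : Ext S.X₁ N (n + 1))
    (hw : hS.extClass.comp w h = 0) : w = 0 := by
  obtain ⟨v, rfl⟩ := Ext.contravariant_sequence_exact₁ hS N w h hw
  haveI : Subsingleton (Ext S.X₂ N (n + 1)) := Ext.subsingleton_of_projective _ _ _
  rw [Subsingleton.elim v 0, Ext.comp_zero]

theorem extZero_succ_iff {X X' : ModuleCat.{u} R} (f : X ⟶ X') (n : ℕ) :
    ExtZero f (n + 1) ↔ ExtZero ((Om R).map f) n := by
  refine ⟨fun h N w => ?_, fun h N z => ?_⟩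
  · haveI : Projective (omSeq X).X₂ := projective_omSeq X
    refine extClass_injective (omSeq_shortExact X) (n := n) (m := n + 1 + 1) (by omega) _ ?_
    refine Eq.trans ?_ (h N ((omSeq_shortExact X').extClass.comp w (by omega)))
    exact (extClass_comp_map f w (by omega)).symm
  · obtain ⟨w, rfl⟩ := extClass_surjective (omSeq_shortExact X') (n := n + 1) (m := n + 1 + 1) (by omega) z
    refine (extClass_comp_map f w (by omega)).trans ?_
    have e : (Ext.mk₀ (omMap f).τ₁).comp w (zero_add (n + 1)) = 0 := h N w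
    rw [e]
    exact Ext.comp_zero _ _ _ _ _

theorem extZero_itOm : ∀ (n : ℕ) {X X' : ModuleCat.{u} R} (f : X ⟶ X'),
    ExtZero f n ↔ ExtZero ((itOm R n).map f) 0
  | 0, _, _, _ => Iff.rfl
  | n + 1, _, _, f => (extZero_succ_iff f n).trans (extZero_itOm n _)

theorem torZero_itOm : ∀ (n : ℕ) {X X' : ModuleCat.{u} R} (f : X ⟶ X') (N : ModuleCat.{u} R),
    ((Tor (ModuleCat.{u} R) (n + 1)).map f).app N = 0 ↔ ((Tor (ModuleCat.{u} R) 1).map ((itOm R n).map f)).app N = 0
  | 0, _, _, _, _ => Iff.rfl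
  | n + 1, X, X', f, N => by
    refine Iff.trans ?_ (torZero_itOm n ((Om R).map f) N)
    have e := congr_app ((torShiftLeft R n).hom.naturality f) N
    rw [NatTrans.comp_app, NatTrans.comp_app] at e
    constructor
    · intro h
      rw [h, comp_zero] at e
      rw [← cancel_mono (((torShiftLeft R n).hom.app X').app N), zero_comp]
      exact e
    · intro h
      have e' : ((Om R ⋙ Tor (ModuleCat.{u} R) (n + 1)).map f).app N = 0 := h
      rw [e', zero_comp] at e
      rw [← cancel_epi (((torShiftLeft R n).hom.app X).app N), comp_zero]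
      exact e.symm

theorem torZero_of_extZero {X X' : ModuleCat.{u} R} (f : X ⟶ X') (h : ExtZero f 0) (N : ModuleCat.{u} R) :
    ((Tor (ModuleCat.{u} R) 1).map f).app N = 0 := by
  obtain ⟨g, hg⟩ := Ext.covariant_sequence_exact₃ X (omSeq_shortExact X') (Ext.mk₀ f) (add_comm 0 1)
    (h _ (omSeq_shortExact X').extClass)
  obtain ⟨g, rfl⟩ := (Ext.mk₀_bijective _ _).2 g
  rw [Ext.mk₀_comp_mk₀] at hg
  have hf : f = g ≫ ep R X' := ((Ext.mk₀_bijective X X').1 hg).symm
  rw [hf, Functor.map_comp, NatTrans.comp_app]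
  haveI : Module.Flat R ((Fo R).obj X') := flat_Fo R X'
  rw [(H1CAlg.isZero_Tor_of_flat ((Fo R).obj X') N 0).eq_of_tgt (((Tor (ModuleCat.{u} R) 1).map g).app N) 0]
  exact zero_comp

/-- There is a finitely generated module detecting the `Ext` of positive degree. -/
def Good (X : ModuleCat.{u} R) : Prop :=
  ∃ (K : ModuleCat.{u} R) (j : K ⟶ X), Module.Finite R K ∧
    ∀ (N : ModuleCat.{u} R) (i : ℕ) (z : Ext X N (i + 1)), (Ext.mk₀ j).comp z (zero_add _) = 0 → z = 0

theorem good_Om [IsNoetherianRing R] {X : ModuleCat.{u} R} (hX : Good X) : Good ((Om R).obj X) := by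
  obtain ⟨K, j, hK, hj⟩ := hX
  obtain ⟨a, π, hπ⟩ := Module.Finite.exists_fin' R K
  let S : ShortComplex (ModuleCat.{u} R) := ShortComplex.mk (kernel.ι (ModuleCat.ofHom π)) (ModuleCat.ofHom π)
    (kernel.condition _)
  haveI : Epi (ModuleCat.ofHom π) := (ModuleCat.epi_iff_surjective _).2 hπ
  haveI : Epi S.g := ‹_›
  have hS : S.ShortExact := { exact := ShortComplex.exact_kernel _ }
  haveI : Projective S.X₂ := ModuleCat.projective_of_free (Pi.basisFun R (Fin a))
  haveI : Epi (omSeq X).g := epi_ep R X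
  haveI : Epi (ep R X) := epi_ep R X
  let l : S.X₂ ⟶ (omSeq X).X₂ := Projective.factorThru (S.g ≫ j) (ep R X)
  have hl : l ≫ (omSeq X).g = S.g ≫ j := Projective.factorThru_comp (S.g ≫ j) (ep R X)
  haveI := mono_inc R X
  let l₁ : S.X₁ ⟶ (Om R).obj X := kernel.lift (ep R X) (S.f ≫ l) (by
    rw [Category.assoc, show l ≫ ep R X = S.g ≫ j from hl, ← Category.assoc, S.zero, zero_comp])
  let φ : S ⟶ omSeq X := ShortComplex.homMk l₁ l j (kernel.lift_ι _ _ _) hl
  haveI : Module.Finite R S.X₁ := Module.Finite.of_injective S.f.hom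
    ((ModuleCat.mono_iff_injective S.f).1 inferInstance)
  refine ⟨S.X₁, l₁, ‹_›, fun N i z hz => ?_⟩
  refine extClass_injective (omSeq_shortExact X) (m := i + 1 + 1) (by omega) z (hj N (i + 1) _ ?_)
  rw [← Ext.comp_assoc (Ext.mk₀ j) _ z (zero_add 1) (by omega) (by omega),
    show (Ext.mk₀ j).comp (omSeq_shortExact X).extClass (zero_add 1) = hS.extClass.comp (Ext.mk₀ l₁) (add_zero 1) from
      (hS.extClass_naturality (omSeq_shortExact X) φ).symm,
    Ext.comp_assoc_of_second_deg_zero, hz]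
  exact Ext.comp_zero _ _ _ _ _

theorem good_itOm [IsNoetherianRing R] : ∀ (n : ℕ) (X : ModuleCat.{u} R), Good X → Good ((itOm R n).obj X)
  | 0, _, h => h
  | n + 1, X, h => good_itOm n _ (good_Om h)

theorem extZero_of_torZero [IsNoetherianRing R] {X X' : ModuleCat.{u} R} (f : X ⟶ X') (hX : Good X)
    (h : ∀ N : ModuleCat.{u} R, ((Tor (ModuleCat.{u} R) 1).map f).app N = 0) : ExtZero f 0 := by
  obtain ⟨K, j, hK, hj⟩ := hX
  intro N z
  refine hj N 0 _ ?_
  rw [Ext.mk₀_comp_mk₀_assoc]
  haveI : Module.FinitePresentation R K := Module.finitePresentation_of_finite R K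
  obtain ⟨g, hg⟩ := exists_factor (M := K) (M' := X') (j ≫ f).hom fun N' _ _ => by
    show ((Tor (ModuleCat.{u} R) 1).map (j ≫ f)).app (ModuleCat.of R N') = 0
    rw [Functor.map_comp, NatTrans.comp_app, h, comp_zero]
  have hfac : j ≫ f = (ModuleCat.ofHom g : K ⟶ ModuleCat.of R (X' →₀ R)) ≫
      ModuleCat.ofHom (Finsupp.linearCombination R id) := ModuleCat.hom_ext hg.symm
  haveI : Projective (ModuleCat.of R (X' →₀ R)) := ModuleCat.projective_of_free (Finsupp.basisSingleOne)
  haveI : Subsingleton (Ext (ModuleCat.of R (X' →₀ R)) N (0 + 1)) := Ext.subsingleton_of_projective _ _ _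
  rw [hfac, ← Ext.mk₀_comp_mk₀_assoc,
    Subsingleton.elim ((Ext.mk₀ (ModuleCat.ofHom (Finsupp.linearCombination R id))).comp z (zero_add _)) 0, Ext.comp_zero]

end Groth.Agent.H4TorFactor
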