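import Groth.Agent.H1TorFlip.Flip
import Groth.Agent.H4TorFactor.Char

/-!
# A map out of a finitely presented module killing `Tor₁` factors through a free module
-/

set_option autoImplicit false
set_option linter.style.haveILetI false
universe u

open CategoryTheory Limits MonoidalCategory TensorProduct

namespace Groth.Agent.H4TorFactor

open Groth.Agent.H1TorFlip

variable {R : Type u} [CommRing R]

theorem kR_map_eq_zero {M M' : Type u} [AddCommGroup M] [Module R M] [AddCommGroup M'] [Module R M']
    (α : M →ₗ[R] M') (N : ModuleCat.{u} R)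
    (h : ((Tor (ModuleCat.{u} R) 1).map (ModuleCat.ofHom α)).app N = 0)
    (s : M ⊗[R] ((Om R).obj N : ModuleCat.{u} R)) (hs : LinearMap.lTensor M ((inc R).app N).hom s = 0) :
    LinearMap.rTensor ((Om R).obj N : ModuleCat.{u} R) α s = 0 := by
  have e := congr_app ((torOne R).hom.naturality (ModuleCat.ofHom α)) N
  rw [NatTrans.comp_app, NatTrans.comp_app, h, zero_comp] at e
  have e2 : ((KR R).map (ModuleCat.ofHom α)).app N = 0 := by
    rw [← cancel_epi (((torOne R).hom.app (ModuleCat.of R M)).app N), ← e, comp_zero]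
  have e3 := congrArg Subtype.val (hom_congr R e2 ⟨s, hs⟩)
  change (ModuleCat.ofHom α ⊗ₘ (Om R).map (𝟙 N)).hom s = 0 at e3
  rw [CategoryTheory.Functor.map_id, tensorHom_id] at e3
  exact e3

theorem exists_factor {M M' : Type u} [AddCommGroup M] [Module R M] [Module.FinitePresentation R M]
    [AddCommGroup M'] [Module R M'] (α : M →ₗ[R] M')
    (h : ∀ (N : Type u) [AddCommGroup N] [Module R N],
      ((Tor (ModuleCat.{u} R) 1).map (ModuleCat.ofHom α)).app (ModuleCat.of R N) = 0) :
    ∃ g : M →ₗ[R] (M' →₀ R), Finsupp.linearCombination R id ∘ₗ g = α := by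
  refine exists_comp_eq (Finsupp.linearCombination R id) α fun b m φ hmφ => ?_
  let qd : CharacterModule M' →ₗ[R] CharacterModule (M' →₀ R) :=
    CharacterModule.dual (Finsupp.linearCombination R id)
  have hqd : Function.Injective qd :=
    CharacterModule.dual_injective_of_surjective _ (Finsupp.linearCombination_id_surjective R M')
  let N : ModuleCat.{u} R := ModuleCat.of R (CharacterModule (M' →₀ R) ⧸ LinearMap.range qd)
  haveI : Projective ((Fo R).obj N) := projective_Fo R N
  haveI : Module.Projective R ((Fo R).obj N : ModuleCat.{u} R) :=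
    (IsProjective.iff_projective _).2 ‹_›
  obtain ⟨hl, hhl⟩ := Module.projective_lifting_property (LinearMap.range qd).mkQ (ep R N).hom
    (LinearMap.range qd).mkQ_surjective
  have hres : ∀ ω, hl (((inc R).app N).hom ω) ∈ LinearMap.range qd := fun ω => by
    rw [← Submodule.Quotient.mk_eq_zero]
    refine (LinearMap.congr_fun hhl _).trans ?_
    exact hom_congr R (inc_ep R N) ω
  let h' : ((Om R).obj N : ModuleCat.{u} R) →ₗ[R] CharacterModule M' :=
    (LinearEquiv.ofInjective qd hqd).symm.toLinearMap ∘ₗ
      (hl ∘ₗ ((inc R).app N).hom).codRestrict (LinearMap.range qd) hres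
  have hh' : ∀ ω, qd (h' ω) = hl (((inc R).app N).hom ω) := fun ω =>
    congrArg Subtype.val ((LinearEquiv.ofInjective qd hqd).apply_symm_apply
      ⟨hl (((inc R).app N).hom ω), hres ω⟩)
  let v : (CharacterModule M' × ((Fo R).obj N : ModuleCat.{u} R)) →ₗ[R] CharacterModule (M' →₀ R) :=
    qd.coprod hl
  let w : ((Om R).obj N : ModuleCat.{u} R) →ₗ[R] (CharacterModule M' × ((Fo R).obj N : ModuleCat.{u} R)) :=
    h'.prod (-((inc R).app N).hom)
  have hv : Function.Surjective v := fun c => by
    obtain ⟨p, hp⟩ := (ModuleCat.epi_iff_surjective (ep R N)).1 inferInstance (Submodule.Quotient.mk c)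
    have : c - hl p ∈ LinearMap.range qd := (Submodule.Quotient.eq _).1
      (hp.symm.trans (LinearMap.congr_fun hhl p).symm)
    obtain ⟨a, ha⟩ := this
    exact ⟨(a, p), by show qd a + hl p = c; rw [ha, sub_add_cancel]⟩
  have hex : Function.Exact w v := fun z => by
    refine ⟨fun hz => ?_, ?_⟩
    · obtain ⟨a, p⟩ := z
      have hz' : qd a + hl p = 0 := hz
      have hp : (ep R N).hom p = 0 := by
        rw [← LinearMap.congr_fun hhl p]
        refine (Submodule.Quotient.mk_eq_zero _).2 ⟨-a, ?_⟩
        rw [map_neg, neg_eq_of_add_eq_zero_right hz']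
      obtain ⟨ω, hω⟩ := (ShortComplex.moduleCat_exact_iff _).1 (exact_inc_ep R N) p hp
      refine ⟨-ω, Prod.ext (hqd ?_) ?_⟩
      · show qd (h' (-ω)) = qd a
        rw [hh', map_neg, map_neg, show hl (((inc R).app N).hom ω) = hl p from congrArg hl hω,
          eq_neg_of_add_eq_zero_left hz']
      · show -(((inc R).app N).hom (-ω)) = p
        rw [map_neg, neg_neg]
        exact hω
    · rintro ⟨ω, rfl⟩
      show qd (h' ω) + hl (-((inc R).app N).hom ω) = 0
      rw [hh', map_neg, add_neg_cancel]
  let t : M ⊗[R] CharacterModule M' := ∑ i, m i ⊗ₜ[R] φ i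
  have ht : LinearMap.lTensor M qd t = 0 := by
    simpa only [t, map_sum, LinearMap.lTensor_tmul] using hmφ
  let t₁ := LinearMap.lTensor M (LinearMap.inl R (CharacterModule M') ((Fo R).obj N : ModuleCat.{u} R)) t
  have ht₁ : LinearMap.lTensor M v t₁ = 0 := by
    rw [← LinearMap.comp_apply, ← LinearMap.lTensor_comp, LinearMap.coprod_inl, ht]
  obtain ⟨s, hs⟩ := ((lTensor_exact M hex hv) t₁).1 ht₁
  have hs2 : LinearMap.lTensor M ((inc R).app N).hom s = 0 := by
    have := congrArg (LinearMap.lTensor M (LinearMap.snd R (CharacterModule M') ((Fo R).obj N : ModuleCat.{u} R))) hs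
    simp only [t₁, ← LinearMap.comp_apply, ← LinearMap.lTensor_comp] at this
    rw [LinearMap.snd_prod, LinearMap.lTensor_neg, LinearMap.snd_comp_inl, LinearMap.lTensor_zero,
      LinearMap.zero_apply, LinearMap.neg_apply, neg_eq_zero] at this
    exact this
  have hs1 : LinearMap.lTensor M h' s = t := by
    have := congrArg (LinearMap.lTensor M (LinearMap.fst R (CharacterModule M') ((Fo R).obj N : ModuleCat.{u} R))) hs
    simp only [t₁, ← LinearMap.comp_apply, ← LinearMap.lTensor_comp] at this
    rw [LinearMap.fst_prod, LinearMap.fst_comp_inl, LinearMap.lTensor_id, LinearMap.id_apply] at this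
    exact this
  have hα := kR_map_eq_zero α N (h N) s hs2
  have hαt : LinearMap.rTensor (CharacterModule M') α t = 0 := by
    rw [← hs1, ← LinearMap.comp_apply, LinearMap.rTensor_comp_lTensor, ← LinearMap.lTensor_comp_rTensor,
      LinearMap.comp_apply, hα, map_zero]
  let ev : M' ⊗[R] CharacterModule M' →+ AddCircle (1 : ℚ) :=
    TensorProduct.liftAddHom (AddMonoidHom.flip
      ({ toFun := fun c => c, map_zero' := rfl, map_add' := fun _ _ => rfl } : CharacterModule M' →+ M' →+ AddCircle (1 : ℚ)))
      (fun r x c => rfl)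
  have := congrArg ev hαt
  simp only [t, map_sum, LinearMap.rTensor_tmul, map_zero] at this
  exact this

end Groth.Agent.H4TorFactor
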